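import Mathlib

/-!
# S1472 (Bender–Glauberman, Appendix C, Lemma C.3): package statements (helper50)

Paper proof: team notes, topic `S1472` (helper50).  Each `def X : Prop` below is a package, to be
proved as `theorem x : X.{..}` in the prover's own file.

Notation of the notes: `s ∈ P` with `f s = 1`, `t = y s y⁻¹`, `c = t s⁻¹ ∈ Q1`,
`D = Q1 ⟨s⟩` (a Frobenius group), `X₁ = t s t⁻¹`, `X₋₁ = t⁻¹ s t`.
-/

set_option autoImplicit false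

namespace Cfsg.Agent.Lib.Helper50.BGC

universe u v

/-- The abstract setting after Steps 1-3 of Lemma C.3. -/
structure Setting (G : Type u) [Group G] (p : ℕ) where
  P : Subgroup G
  U : Subgroup G
  Q1 : Subgroup G
  s : G
  t : G
  p_prime : p.Prime
  p_odd : p ≠ 2
  /-- `P` is abelian. -/
  P_comm : ∀ x ∈ P, ∀ z ∈ P, x * z = z * x
  /-- `U` normalizes `P`. -/
  U_normP : ∀ u ∈ U, ∀ x ∈ P, u * x * u⁻¹ ∈ P
  /-- `t` normalizes `U`. -/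
  t_normU : ∀ u ∈ U, t * u * t⁻¹ ∈ U
  t_normU' : ∀ u ∈ U, t⁻¹ * u * t ∈ U
  PU_disj : ∀ g ∈ P, g ∈ U → g = 1
  /-- `U ≠ 1` acts on `P` as a Frobenius complement: `C_U(x) = 1` for `1 ≠ x ∈ P`. -/
  U_ne : ∃ u ∈ U, u ≠ 1
  U_frob : ∀ u ∈ U, ∀ x ∈ P, u * x * u⁻¹ = x → x = 1 ∨ u = 1
  s_mem : s ∈ P
  s_ne : s ≠ 1
  s_pow : s ^ p = 1
  t_pow : t ^ p = 1
  /-- Step 1: every non-trivial element of `P` is a `U`-conjugate of a power of `s`. -/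
  step1 : ∀ x ∈ P, x ≠ 1 → ∃ u ∈ U, ∃ k : ℕ, x = u⁻¹ * s ^ k * u
  /-- `Q1` is abelian, normalized by `s`, of order prime to `p`, contains `c = t s⁻¹`, is generated
  by the `s`-conjugates of `c`, and `C_{Q1}(s) = 1`. -/
  Q1_comm : ∀ v ∈ Q1, ∀ w ∈ Q1, v * w = w * v
  s_normQ : ∀ v ∈ Q1, s * v * s⁻¹ ∈ Q1
  s_normQ' : ∀ v ∈ Q1, s⁻¹ * v * s ∈ Q1
  Q1_coprime : (Nat.card Q1).Coprime p
  c_mem : t * s⁻¹ ∈ Q1
  Q1_gen : Q1 ≤ Subgroup.closure (Set.range fun i : ℕ => s ^ i * (t * s⁻¹) * (s ^ i)⁻¹)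
  s_fpf : ∀ v ∈ Q1, s * v * s⁻¹ = v → v = 1
  /-- Step 3: `H ∩ t^k H t^-k = U` for `p ∤ k`, where `H = P U`. -/
  step3 : ∀ k : ℤ, ¬ (p : ℤ) ∣ k → ∀ x ∈ P, ∀ u ∈ U, ∀ x' ∈ P, ∀ u' ∈ U,
    t ^ k * (x * u) * (t ^ k)⁻¹ = x' * u' → x = 1

variable {G : Type u} [Group G] {p : ℕ}

/-- The Frobenius group `D = Q1 ⟨s⟩ = ⟨s, t⟩`. -/
def Setting.D (S : Setting G p) : Subgroup G := S.Q1 ⊔ Subgroup.zpowers S.s

/-- (P1) If `t⁻¹ s^m t⁻¹ = x t⁻² x'` with `x, x' ∈ P`, `x ≠ 1`, then `x₁ = t x t⁻¹` normalizes `D`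
and `Q1` and acts fixed-point-freely on `Q1`. -/
def PlanarA : Prop :=
  ∀ {G : Type u} [Group G] [Finite G] {p : ℕ} (S : Setting G p) (m : ℕ) (x x' : G),
    x ∈ S.P → x' ∈ S.P → x ≠ 1 →
    S.t⁻¹ * S.s ^ m * S.t⁻¹ = x * S.t⁻¹ * S.t⁻¹ * x' →
    (∀ g ∈ S.D, (S.t * x * S.t⁻¹) * g * (S.t * x * S.t⁻¹)⁻¹ ∈ S.D) ∧
    (∀ v ∈ S.Q1, (S.t * x * S.t⁻¹) * v * (S.t * x * S.t⁻¹)⁻¹ ∈ S.Q1) ∧
    (∀ v ∈ S.Q1, (S.t * x * S.t⁻¹) * v * (S.t * x * S.t⁻¹)⁻¹ = v → v = 1)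

/-- (P2) Planarity: under the same hypotheses `x` is a power of `s` (from (P1)). -/
def CorePlanar : Prop :=
  ∀ {G : Type u} [Group G] [Finite G] {p : ℕ} (S : Setting G p) (m : ℕ) (x x' : G),
    x ∈ S.P → x' ∈ S.P → x ≠ 1 →
    S.t⁻¹ * S.s ^ m * S.t⁻¹ = x * S.t⁻¹ * S.t⁻¹ * x' →
    ∃ l : ℕ, x = S.s ^ l

/-- (P3) In-plane relations are canonical. -/
def CoreInPlane : Prop :=
  ∀ {G : Type u} [Group G] [Finite G] {p : ℕ} (S : Setting G p) (m l : ℕ) (x' : G),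
    x' ∈ S.P → S.s ^ l ≠ 1 →
    S.t⁻¹ * S.s ^ m * S.t⁻¹ = S.s ^ l * S.t⁻¹ * S.t⁻¹ * x' →
    S.s ^ l = S.s

/-- The core lemma (= (P2) + (P3)). -/
def CoreLemma : Prop :=
  ∀ {G : Type u} [Group G] [Finite G] {p : ℕ} (S : Setting G p) (m : ℕ) (x x' : G),
    x ∈ S.P → x' ∈ S.P → x ≠ 1 →
    S.t⁻¹ * S.s ^ m * S.t⁻¹ = x * S.t⁻¹ * S.t⁻¹ * x' → x = S.s

/-- The hypotheses of the frozen statement S1472. -/
structure Hyp (G : Type u) [Group G] (p q : ℕ) (F : Type v) [Field F] [Fintype F] where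
  P : Subgroup G
  U : Subgroup G
  Q : Subgroup G
  f : G → F
  ψ : G → F
  y : G
  hA : Nat.Coprime ((p ^ q - 1) / (p - 1)) (p - 1)
  hF : Fintype.card F = p ^ q
  hf : Set.BijOn f (P : Set G) Set.univ
  hfadd : ∀ x ∈ P, ∀ z ∈ P, f (x * z) = f x + f z
  hUP : U ≤ Subgroup.normalizer (P : Set G)
  hψ : ∀ u ∈ U, ψ u ≠ 0 ∧ ∀ x ∈ P, f (u * x * u⁻¹) = ψ u * f x
  hψmul : ∀ u ∈ U, ∀ v ∈ U, ψ (u * v) = ψ u * ψ v
  hψinj : Set.InjOn ψ (U : Set G)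
  hUcard : Nat.card U * (p - 1) = p ^ q - 1
  hQ : IsMulCommutative Q
  hQp : (Nat.card Q).Coprime p
  hP0Q : ∀ x ∈ P, f x ^ p = f x → x ∈ Subgroup.normalizer (Q : Set G)
  hy : y ∈ Q
  hP0U : ∀ x ∈ P, f x ^ p = f x → y * x * y⁻¹ ∈ Subgroup.normalizer (U : Set G)

/-- (P5) Steps 1-3: the hypotheses of S1472 (with `q < p`) give a `Setting`. -/
def Setup : Prop :=
  ∀ {G : Type u} [Group G] [Finite G] {p q : ℕ} [Fact p.Prime] [Fact q.Prime]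
    {F : Type v} [Field F] [Fintype F] (h : Hyp G p q F), q < p →
    5 ≤ p ∧ ∃ S : Setting G p, S.P = h.P ∧ S.U = h.U ∧ h.f S.s = 1 ∧ S.t = h.y * S.s * h.y⁻¹

/-- (P6) The key step: the core lemma gives `E⁻¹ ⊆ E`, where
`E = {a | a ^ N = 1 ∧ (2 - a) ^ N = 1}`, `N = (p ^ q - 1) / (p - 1)`. -/
def Key : Prop :=
  ∀ {G : Type u} [Group G] [Finite G] {p q : ℕ} [Fact p.Prime] [Fact q.Prime]
    {F : Type v} [Field F] [Fintype F] (h : Hyp G p q F) (S : Setting G p),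
    5 ≤ p → S.P = h.P → S.U = h.U → h.f S.s = 1 → S.t = h.y * S.s * h.y⁻¹ →
    CoreLemma.{u} →
    ∀ a : F, a ^ ((p ^ q - 1) / (p - 1)) = 1 → (2 - a) ^ ((p ^ q - 1) / (p - 1)) = 1 →
      (2 - a⁻¹) ^ ((p ^ q - 1) / (p - 1)) = 1

/-- (P4) The field-theoretic end (S1470 + S1471 transported to `F`). -/
def FieldFinal : Prop :=
  ∀ (p q : ℕ) [Fact p.Prime] [Fact q.Prime] (F : Type v) [Field F] [Fintype F],
    Fintype.card F = p ^ q → Nat.Coprime ((p ^ q - 1) / (p - 1)) (p - 1) →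
    (∀ a : F, a ^ ((p ^ q - 1) / (p - 1)) = 1 → (2 - a) ^ ((p ^ q - 1) / (p - 1)) = 1 →
      (2 - a⁻¹) ^ ((p ^ q - 1) / (p - 1)) = 1) →
    p ≤ q

end Cfsg.Agent.Lib.Helper50.BGC
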