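import Cfsg.Agent.Lib.Helper50.BGC.Defs

/-!
# S1472: basic consequences of the hypotheses `Hyp` (helper50)
-/

set_option autoImplicit false

namespace Cfsg.Agent.Lib.Helper50.BGC

universe u v

namespace Hyp

variable {G : Type u} [Group G] {p q : ℕ} {F : Type v} [Field F] [Fintype F]
variable (h : Hyp G p q F)

theorem f_one : h.f 1 = 0 := by
  have := h.hfadd 1 (one_mem _) 1 (one_mem _)
  rw [one_mul] at this
  linear_combination (-1 : F) * this

theorem f_inv {x : G} (hx : x ∈ h.P) : h.f x⁻¹ = - h.f x := by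
  have := h.hfadd x hx x⁻¹ (inv_mem hx)
  rw [mul_inv_cancel, h.f_one] at this
  linear_combination (-1 : F) * this

theorem f_pow {x : G} (hx : x ∈ h.P) (k : ℕ) : h.f (x ^ k) = k * h.f x := by
  induction k with
  | zero => simp [h.f_one]
  | succ n ih => rw [pow_succ, h.hfadd _ (pow_mem hx n) _ hx, ih]; push_cast; ring

theorem f_inj {x z : G} (hx : x ∈ h.P) (hz : z ∈ h.P) (e : h.f x = h.f z) : x = z :=
  h.hf.injOn hx hz e

theorem f_eq_zero {x : G} (hx : x ∈ h.P) (e : h.f x = 0) : x = 1 :=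
  h.f_inj hx (one_mem _) (by rw [e, h.f_one])

theorem ψ_one : h.ψ 1 = 1 := by
  have h1 := h.hψmul 1 (one_mem _) 1 (one_mem _)
  rw [one_mul] at h1
  have h0 := (h.hψ 1 (one_mem _)).1
  exact (mul_left_cancel₀ h0 (by rw [mul_one]; exact h1)).symm

theorem ψ_ne {u : G} (hu : u ∈ h.U) : h.ψ u ≠ 0 := (h.hψ u hu).1

theorem ψ_inv {u : G} (hu : u ∈ h.U) : h.ψ u⁻¹ = (h.ψ u)⁻¹ := by
  have h1 := h.hψmul u hu u⁻¹ (inv_mem hu)
  rw [mul_inv_cancel, h.ψ_one] at h1
  exact eq_inv_of_mul_eq_one_right h1.symm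

theorem ψ_pow {u : G} (hu : u ∈ h.U) (k : ℕ) : h.ψ (u ^ k) = h.ψ u ^ k := by
  induction k with
  | zero => simp [h.ψ_one]
  | succ n ih => rw [pow_succ, h.hψmul _ (pow_mem hu n) _ hu, ih, pow_succ]

theorem conj_mem {u x : G} (hu : u ∈ h.U) (hx : x ∈ h.P) : u * x * u⁻¹ ∈ h.P :=
  ((Subgroup.mem_normalizer_iff.mp (h.hUP hu)) x).mp hx

theorem conj_mem' {u x : G} (hu : u ∈ h.U) (hx : x ∈ h.P) : u⁻¹ * x * u ∈ h.P := by
  have := h.conj_mem (inv_mem hu) hx
  rwa [inv_inv] at this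

theorem f_conj {u x : G} (hu : u ∈ h.U) (hx : x ∈ h.P) : h.f (u * x * u⁻¹) = h.ψ u * h.f x :=
  (h.hψ u hu).2 x hx

theorem f_conj' {u x : G} (hu : u ∈ h.U) (hx : x ∈ h.P) :
    h.f (u⁻¹ * x * u) = (h.ψ u)⁻¹ * h.f x := by
  have := (h.hψ u⁻¹ (inv_mem hu)).2 x hx
  rwa [inv_inv, h.ψ_inv hu] at this

/-- `ψ u = 1` forces `u = 1`. -/
theorem ψ_eq_one {u : G} (hu : u ∈ h.U) (e : h.ψ u = 1) : u = 1 :=
  h.hψinj hu (one_mem _) (by rw [e, h.ψ_one])

theorem card_U (hp : 1 < p) : Nat.card h.U = (p ^ q - 1) / (p - 1) :=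
  (Nat.div_eq_of_eq_mul_left (by omega) h.hUcard.symm).symm

theorem N_pos [Finite G] (h : Hyp G p q F) (hp : 1 < p) : 0 < (p ^ q - 1) / (p - 1) := by
  rw [← h.card_U hp]; exact Nat.card_pos

theorem ψ_pow_N [Finite G] (hp : 1 < p) {u : G} (hu : u ∈ h.U) :
    h.ψ u ^ ((p ^ q - 1) / (p - 1)) = 1 := by
  rw [← h.ψ_pow hu, ← h.card_U hp]
  have e := pow_card_eq_one' (G := h.U) (x := ⟨u, hu⟩)
  have h2 : u ^ Nat.card h.U = 1 := by
    calc u ^ Nat.card h.U = (((⟨u, hu⟩ : h.U) ^ Nat.card h.U : h.U) : G) := by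
          rw [Subgroup.coe_pow]
      _ = 1 := by rw [e]; rfl
  rw [h2, h.ψ_one]

/-- `ψ` maps `U` onto the `N`-th roots of unity. -/
theorem ψ_surj [Finite G] (hp : 1 < p) (a : F) (ha : a ^ ((p ^ q - 1) / (p - 1)) = 1) :
    ∃ u ∈ h.U, h.ψ u = a := by
  classical
  letI : Fintype h.U := Fintype.ofFinite _
  set N := (p ^ q - 1) / (p - 1) with hN
  have hNpos : 0 < N := h.N_pos hp
  let I : Finset F := Finset.univ.image (fun u : h.U => h.ψ u)
  have hIcard : I.card = N := by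
    rw [Finset.card_image_of_injective]
    · rw [Finset.card_univ, ← Nat.card_eq_fintype_card, h.card_U hp]
    · intro a b hab
      exact Subtype.ext (h.hψinj a.2 b.2 hab)
  have hsub : I ⊆ Polynomial.nthRootsFinset N (1 : F) := by
    intro x hx
    obtain ⟨u, -, rfl⟩ := Finset.mem_image.mp hx
    rw [Polynomial.mem_nthRootsFinset hNpos]
    exact h.ψ_pow_N hp u.2
  have hle : (Polynomial.nthRootsFinset N (1 : F)).card ≤ I.card := by
    rw [hIcard]
    unfold Polynomial.nthRootsFinset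
    exact le_trans (Multiset.toFinset_card_le _) (Polynomial.card_nthRoots N 1)
  have heq := Finset.eq_of_subset_of_card_le hsub hle
  have hmem : a ∈ I := by
    rw [heq, Polynomial.mem_nthRootsFinset hNpos]; exact ha
  obtain ⟨u, -, rfl⟩ := Finset.mem_image.mp hmem
  exact ⟨u, u.2, rfl⟩

end Hyp

end Cfsg.Agent.Lib.Helper50.BGC
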