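import Cfsg.Agent.Lib.Helper50.BGC.HypBasic

/-!
# S1472: package (P6) `Key` (helper50)

From the core lemma to `E⁻¹ ⊆ E`, including the twisted case (`t` acting non-trivially on `U`).
-/

set_option autoImplicit false

namespace Cfsg.Agent.Lib.Helper50.BGC

universe u v

namespace Setting

variable {G : Type u} [Group G] {p : ℕ} (S : Setting G p)

theorem q1_mem : S.s⁻¹ * S.t ∈ S.Q1 := by
  have := S.s_normQ' _ S.c_mem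
  have e : S.s⁻¹ * (S.t * S.s⁻¹) * S.s = S.s⁻¹ * S.t := by group
  rwa [e] at this

theorem q2_mem : (S.s ^ 2)⁻¹ * S.t ^ 2 ∈ S.Q1 := by
  have h1 := S.q1_mem
  have h2 := S.Q1.mul_mem (S.s_normQ' _ h1) h1
  have e : S.s⁻¹ * (S.s⁻¹ * S.t) * S.s * (S.s⁻¹ * S.t) = (S.s ^ 2)⁻¹ * S.t ^ 2 := by
    rw [pow_two, pow_two]; group
  rwa [e] at h2

theorem q3_mem : (S.s ^ 3)⁻¹ * S.t ^ 3 ∈ S.Q1 := by
  have h1 := S.q1_mem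
  have h2 := S.Q1.mul_mem (S.s_normQ' _ S.q2_mem) h1
  have e : S.s⁻¹ * ((S.s ^ 2)⁻¹ * S.t ^ 2) * S.s * (S.s⁻¹ * S.t) = (S.s ^ 3)⁻¹ * S.t ^ 3 := by
    group
  rwa [e] at h2

theorem R32 : (S.t ^ 3)⁻¹ * S.s * S.t ^ 2 = (S.s ^ 2)⁻¹ * S.t⁻¹ * S.s ^ 3 := by
  have hc := S.Q1_comm _ (inv_mem S.q3_mem) _ S.q2_mem
  calc (S.t ^ 3)⁻¹ * S.s * S.t ^ 2
      = ((S.s ^ 3)⁻¹ * S.t ^ 3)⁻¹ * ((S.s ^ 2)⁻¹ * S.t ^ 2) := by group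
    _ = ((S.s ^ 2)⁻¹ * S.t ^ 2) * ((S.s ^ 3)⁻¹ * S.t ^ 3)⁻¹ := hc
    _ = (S.s ^ 2)⁻¹ * S.t⁻¹ * S.s ^ 3 := by group

theorem R21 : (S.t ^ 2)⁻¹ * S.s * S.t = S.s⁻¹ * S.t⁻¹ * S.s ^ 2 := by
  have hc := S.Q1_comm _ (inv_mem S.q2_mem) _ S.q1_mem
  calc (S.t ^ 2)⁻¹ * S.s * S.t
      = ((S.s ^ 2)⁻¹ * S.t ^ 2)⁻¹ * (S.s⁻¹ * S.t) := by group
    _ = (S.s⁻¹ * S.t) * ((S.s ^ 2)⁻¹ * S.t ^ 2)⁻¹ := hc
    _ = S.s⁻¹ * S.t⁻¹ * S.s ^ 2 := by group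

theorem R31 : (S.t ^ 3)⁻¹ * S.s ^ 2 * S.t = S.s⁻¹ * S.t⁻¹ * S.t⁻¹ * S.s ^ 3 := by
  have hc := S.Q1_comm _ (inv_mem S.q3_mem) _ S.q1_mem
  calc (S.t ^ 3)⁻¹ * S.s ^ 2 * S.t
      = ((S.s ^ 3)⁻¹ * S.t ^ 3)⁻¹ * (S.s⁻¹ * S.t) := by group
    _ = (S.s⁻¹ * S.t) * ((S.s ^ 3)⁻¹ * S.t ^ 3)⁻¹ := hc
    _ = S.s⁻¹ * S.t⁻¹ * S.t⁻¹ * S.s ^ 3 := by group

theorem conjU (n : ℕ) : ∀ u ∈ S.U, (S.t ^ n)⁻¹ * u * S.t ^ n ∈ S.U := by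
  induction n with
  | zero => intro u hu; simpa using hu
  | succ n ih =>
    intro u hu
    have := ih _ (S.t_normU' u hu)
    have e : (S.t ^ n)⁻¹ * (S.t⁻¹ * u * S.t) * S.t ^ n = (S.t ^ (n + 1))⁻¹ * u * S.t ^ (n + 1) := by
      rw [pow_succ]; group
    rwa [e] at this

theorem conjU' (n : ℕ) : ∀ u ∈ S.U, S.t ^ n * u * (S.t ^ n)⁻¹ ∈ S.U := by
  induction n with
  | zero => intro u hu; simpa using hu
  | succ n ih =>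
    intro u hu
    have := ih _ (S.t_normU u hu)
    have e : S.t ^ n * (S.t * u * S.t⁻¹) * (S.t ^ n)⁻¹ = S.t ^ (n + 1) * u * (S.t ^ (n + 1))⁻¹ := by
      rw [pow_succ]; group
    rwa [e] at this

end Setting

theorem key : Key.{u, v} := by
  intro G _ _ p q _ _ F _ _ h S hp5 hP hU hfs ht hcore
  have hp1 : 1 < p := by omega
  have hpp : p.Prime := Fact.out
  obtain ⟨N, hN⟩ : ∃ N, N = (p ^ q - 1) / (p - 1) := ⟨_, rfl⟩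
  rw [← hN]
  have hNpos : 0 < N := hN ▸ h.N_pos hp1
  have hsP : S.s ∈ h.P := hP ▸ S.s_mem
  have fk : ∀ k : ℕ, h.f (S.s ^ k) = k := by
    intro k; rw [h.f_pow hsP, hfs, mul_one]
  have hpF : (p : F) = 0 := by
    have := fk p; rw [S.s_pow, h.f_one] at this; exact this.symm
  have hchar : CharP F p := (CharP.charP_iff_prime_eq_zero hpp).mpr hpF
  have ψN : ∀ u ∈ h.U, h.ψ u ^ N = 1 := fun u hu => hN ▸ h.ψ_pow_N hp1 hu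
  -- natural numbers prime to `p` with trivial `N`-th power are `1` in `F`
  have Lk : ∀ k : ℕ, Nat.Coprime k p → (k : F) ^ N = 1 → (k : F) = 1 := by
    intro k hk hkN
    have h1 : (k : F) ^ (p - 1) = 1 := by
      have := Nat.ModEq.pow_totient hk
      rw [Nat.totient_prime hpp] at this
      have h2 := (CharP.natCast_eq_natCast F p).mpr this
      push_cast at h2
      exact h2
    have hd1 := orderOf_dvd_of_pow_eq_one hkN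
    have hd2 := orderOf_dvd_of_pow_eq_one h1
    have hcop : Nat.Coprime N (p - 1) := hN ▸ h.hA
    have : orderOf (k : F) ∣ 1 := by
      have := Nat.dvd_gcd hd1 hd2
      rwa [hcop] at this
    exact orderOf_eq_one_iff.mp (Nat.dvd_one.mp this)
  have two_ne : (2 : F) ^ N ≠ 1 := by
    intro h2
    have hc : Nat.Coprime 2 p := by
      rw [Nat.coprime_comm]; exact (Nat.Prime.coprime_iff_not_dvd hpp).mpr (fun hd => by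
        have := Nat.le_of_dvd (by norm_num) hd; omega)
    have := Lk 2 hc (by exact_mod_cast h2)
    have h10 : (1 : F) = 0 := by
      have h3 : ((2 : ℕ) : F) = 1 := this
      push_cast at h3
      linear_combination h3
    exact one_ne_zero h10
  have three_ne : (3 : F) ^ N ≠ 1 := by
    intro h3
    have hc : Nat.Coprime 3 p := by
      rw [Nat.coprime_comm]; exact (Nat.Prime.coprime_iff_not_dvd hpp).mpr (fun hd => by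
        have := Nat.le_of_dvd (by norm_num) hd; omega)
    have := Lk 3 hc (by exact_mod_cast h3)
    have h20 : ((2 : ℕ) : F) = 0 := by
      have h4 : ((3 : ℕ) : F) = 1 := this
      push_cast at h4 ⊢
      linear_combination h4
    have := (CharP.cast_eq_zero_iff F p 2).mp h20
    have := Nat.le_of_dvd (by norm_num) this
    omega
  -- the key claim
  have K : ∀ u ∈ S.U, ∀ v ∈ S.U, (h.ψ u)⁻¹ + (h.ψ v)⁻¹ = 2 →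
      (2 * (h.ψ ((S.t ^ 3)⁻¹ * u * S.t ^ 3))⁻¹ - 1) ^ N = 1 := by
    intro u hu v hv huv
    have hu' : u ∈ h.U := hU ▸ hu
    have hv' : v ∈ h.U := hU ▸ hv
    obtain ⟨u3, hu3⟩ : ∃ u3, u3 = (S.t ^ 3)⁻¹ * u * S.t ^ 3 := ⟨_, rfl⟩
    obtain ⟨u2, hu2⟩ : ∃ u2, u2 = (S.t ^ 2)⁻¹ * u * S.t ^ 2 := ⟨_, rfl⟩
    obtain ⟨v2, hv2⟩ : ∃ v2, v2 = (S.t ^ 2)⁻¹ * v * S.t ^ 2 := ⟨_, rfl⟩
    obtain ⟨v1, hv1⟩ : ∃ v1, v1 = S.t⁻¹ * v * S.t := ⟨_, rfl⟩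
    rw [← hu3]
    have hu3U : u3 ∈ h.U := by rw [hu3, ← hU]; exact S.conjU 3 u hu
    have hu2U : u2 ∈ h.U := by rw [hu2, ← hU]; exact S.conjU 2 u hu
    have hv2U : v2 ∈ h.U := by rw [hv2, ← hU]; exact S.conjU 2 v hv
    have hv1U : v1 ∈ h.U := by rw [hv1, ← hU]; exact S.t_normU' v hv
    have hrel : (u⁻¹ * S.s * u) * (v⁻¹ * S.s * v) = S.s ^ 2 := by
      apply h.f_inj (mul_mem (h.conj_mem' hu' hsP) (h.conj_mem' hv' hsP)) (pow_mem hsP 2)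
      rw [h.hfadd _ (h.conj_mem' hu' hsP) _ (h.conj_mem' hv' hsP), h.f_conj' hu' hsP,
        h.f_conj' hv' hsP, hfs, fk 2, mul_one, mul_one, huv]
      norm_num
    have Ra : (S.t ^ 3)⁻¹ * (u⁻¹ * S.s * u) * S.t ^ 2
        = (u3⁻¹ * (S.s ^ 2)⁻¹ * u3) * S.t⁻¹ * (u2⁻¹ * S.s ^ 3 * u2) := by
      calc (S.t ^ 3)⁻¹ * (u⁻¹ * S.s * u) * S.t ^ 2
          = u3⁻¹ * ((S.t ^ 3)⁻¹ * S.s * S.t ^ 2) * u2 := by rw [hu3, hu2]; group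
        _ = u3⁻¹ * ((S.s ^ 2)⁻¹ * S.t⁻¹ * S.s ^ 3) * u2 := by rw [S.R32]
        _ = (u3⁻¹ * (S.s ^ 2)⁻¹ * u3) * S.t⁻¹ * (u2⁻¹ * S.s ^ 3 * u2) := by rw [hu3, hu2]; group
    have Rb : (S.t ^ 2)⁻¹ * (v⁻¹ * S.s * v) * S.t
        = (v2⁻¹ * S.s⁻¹ * v2) * S.t⁻¹ * (v1⁻¹ * S.s ^ 2 * v1) := by
      calc (S.t ^ 2)⁻¹ * (v⁻¹ * S.s * v) * S.t
          = v2⁻¹ * ((S.t ^ 2)⁻¹ * S.s * S.t) * v1 := by rw [hv2, hv1]; group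
        _ = v2⁻¹ * (S.s⁻¹ * S.t⁻¹ * S.s ^ 2) * v1 := by rw [S.R21]
        _ = (v2⁻¹ * S.s⁻¹ * v2) * S.t⁻¹ * (v1⁻¹ * S.s ^ 2 * v1) := by rw [hv2, hv1]; group
    have E1 : S.s⁻¹ * S.t⁻¹ * S.t⁻¹ * S.s ^ 3
        = (u3⁻¹ * (S.s ^ 2)⁻¹ * u3) * S.t⁻¹ * (u2⁻¹ * S.s ^ 3 * u2)
          * ((v2⁻¹ * S.s⁻¹ * v2) * S.t⁻¹ * (v1⁻¹ * S.s ^ 2 * v1)) := by
      rw [← Ra, ← Rb, ← S.R31, ← hrel]; group
    obtain ⟨z, hz⟩ : ∃ z, z = (u2⁻¹ * S.s ^ 3 * u2) * (v2⁻¹ * S.s⁻¹ * v2) := ⟨_, rfl⟩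
    obtain ⟨X, hX⟩ : ∃ X, X = (u3⁻¹ * S.s ^ 2 * u3) * S.s⁻¹ := ⟨_, rfl⟩
    obtain ⟨X', hX'⟩ : ∃ X', X' = S.s ^ 3 * (v1⁻¹ * (S.s ^ 2)⁻¹ * v1) := ⟨_, rfl⟩
    have E2 : S.t⁻¹ * z * S.t⁻¹ = X * S.t⁻¹ * S.t⁻¹ * X' := by
      calc S.t⁻¹ * z * S.t⁻¹
          = (u3⁻¹ * (S.s ^ 2)⁻¹ * u3)⁻¹ * ((u3⁻¹ * (S.s ^ 2)⁻¹ * u3) * S.t⁻¹
              * (u2⁻¹ * S.s ^ 3 * u2) * ((v2⁻¹ * S.s⁻¹ * v2) * S.t⁻¹ * (v1⁻¹ * S.s ^ 2 * v1)))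
              * (v1⁻¹ * S.s ^ 2 * v1)⁻¹ := by rw [hz]; group
        _ = (u3⁻¹ * (S.s ^ 2)⁻¹ * u3)⁻¹ * (S.s⁻¹ * S.t⁻¹ * S.t⁻¹ * S.s ^ 3)
              * (v1⁻¹ * S.s ^ 2 * v1)⁻¹ := by rw [E1]
        _ = X * S.t⁻¹ * S.t⁻¹ * X' := by rw [hX, hX']; group
    -- `z`
    have hzP : z ∈ h.P := by
      rw [hz]
      exact mul_mem (h.conj_mem' hu2U (pow_mem hsP 3)) (h.conj_mem' hv2U (inv_mem hsP))
    have hfz : h.f z = 3 * (h.ψ u2)⁻¹ - (h.ψ v2)⁻¹ := by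
      rw [hz, h.hfadd _ (h.conj_mem' hu2U (pow_mem hsP 3)) _ (h.conj_mem' hv2U (inv_mem hsP)),
        h.f_conj' hu2U (pow_mem hsP 3), h.f_conj' hv2U (inv_mem hsP), fk 3, h.f_inv hsP, hfs]
      push_cast; ring
    have hz1 : z ≠ 1 := by
      intro hz1
      have h0 : h.f z = 0 := by rw [hz1, h.f_one]
      rw [hfz] at h0
      have h3 : (3 : F) = h.ψ u2 * (h.ψ v2)⁻¹ := by
        have hne := h.ψ_ne hu2U
        field_simp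
        field_simp at h0
        linear_combination h0
      apply three_ne
      rw [h3, mul_pow, inv_pow, ψN u2 hu2U, ψN v2 hv2U]; simp
    obtain ⟨w, hwS, m, hzm⟩ := S.step1 z (hP ▸ hzP) hz1
    have hw : w ∈ h.U := hU ▸ hwS
    obtain ⟨w1, hw1⟩ : ∃ w1, w1 = S.t⁻¹ * w * S.t := ⟨_, rfl⟩
    obtain ⟨w2, hw2⟩ : ∃ w2, w2 = S.t * w * S.t⁻¹ := ⟨_, rfl⟩
    have hw1U : w1 ∈ h.U := by rw [hw1, ← hU]; exact S.t_normU' w hwS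
    have hw2U : w2 ∈ h.U := by rw [hw2, ← hU]; exact S.t_normU w hwS
    have E3 : S.t⁻¹ * S.s ^ m * S.t⁻¹ = (w1 * X * w1⁻¹) * S.t⁻¹ * S.t⁻¹ * (w2 * X' * w2⁻¹) := by
      calc S.t⁻¹ * S.s ^ m * S.t⁻¹
          = w1 * (S.t⁻¹ * (w⁻¹ * S.s ^ m * w) * S.t⁻¹) * w2⁻¹ := by rw [hw1, hw2]; group
        _ = w1 * (X * S.t⁻¹ * S.t⁻¹ * X') * w2⁻¹ := by rw [← hzm, E2]
        _ = (w1 * X * w1⁻¹) * S.t⁻¹ * S.t⁻¹ * (w2 * X' * w2⁻¹) := by rw [hw1, hw2]; group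
    have hXP : X ∈ h.P := by
      rw [hX]; exact mul_mem (h.conj_mem' hu3U (pow_mem hsP 2)) (inv_mem hsP)
    have hX'P : X' ∈ h.P := by
      rw [hX']; exact mul_mem (pow_mem hsP 3) (h.conj_mem' hv1U (inv_mem (pow_mem hsP 2)))
    have hfX : h.f X = 2 * (h.ψ u3)⁻¹ - 1 := by
      rw [hX, h.hfadd _ (h.conj_mem' hu3U (pow_mem hsP 2)) _ (inv_mem hsP),
        h.f_conj' hu3U (pow_mem hsP 2), fk 2, h.f_inv hsP, hfs]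
      push_cast; ring
    have hX1 : X ≠ 1 := by
      intro hX1
      have h0 : h.f X = 0 := by rw [hX1, h.f_one]
      rw [hfX] at h0
      have h2 : (2 : F) = h.ψ u3 := by
        have hne := h.ψ_ne hu3U
        field_simp at h0
        linear_combination h0
      apply two_ne
      rw [h2, ψN u3 hu3U]
    have hxt1 : w1 * X * w1⁻¹ ≠ 1 := by
      intro hc
      apply hX1
      have : X = w1⁻¹ * (w1 * X * w1⁻¹) * w1 := by group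
      rw [this, hc]; group
    have hcl := hcore S m (w1 * X * w1⁻¹) (w2 * X' * w2⁻¹)
      (by rw [hP]; exact h.conj_mem hw1U hXP) (by rw [hP]; exact h.conj_mem hw2U hX'P) hxt1 E3
    have hf1 : h.ψ w1 * (2 * (h.ψ u3)⁻¹ - 1) = 1 := by
      rw [← hfX, ← h.f_conj hw1U hXP, hcl, hfs]
    have : 2 * (h.ψ u3)⁻¹ - 1 = (h.ψ w1)⁻¹ := eq_inv_of_mul_eq_one_right hf1
    rw [this, inv_pow, ψN w1 hw1U, inv_one]
  -- `E_U` is stable under `u ↦ (t⁻³ u t³)⁻¹`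
  have step : ∀ u ∈ S.U, (2 - (h.ψ u)⁻¹) ^ N = 1 →
      (2 - h.ψ ((S.t ^ 3)⁻¹ * u * S.t ^ 3)) ^ N = 1 := by
    intro u hu hE
    have hu' : u ∈ h.U := hU ▸ hu
    have h2a : ((2 - (h.ψ u)⁻¹)⁻¹) ^ N = 1 := by rw [inv_pow, hE, inv_one]
    obtain ⟨v, hv, hψv⟩ := h.ψ_surj hp1 _ (hN ▸ h2a)
    have huv : (h.ψ u)⁻¹ + (h.ψ v)⁻¹ = 2 := by rw [hψv, inv_inv]; ring
    have hK := K u hu v (hU ▸ hv) huv
    have hu3U : (S.t ^ 3)⁻¹ * u * S.t ^ 3 ∈ h.U := by rw [← hU]; exact S.conjU 3 u hu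
    have hne := h.ψ_ne hu3U
    have e : 2 - h.ψ ((S.t ^ 3)⁻¹ * u * S.t ^ 3)
        = h.ψ ((S.t ^ 3)⁻¹ * u * S.t ^ 3) * (2 * (h.ψ ((S.t ^ 3)⁻¹ * u * S.t ^ 3))⁻¹ - 1) := by
      field_simp
    rw [e, mul_pow, ψN _ hu3U, hK, one_mul]
  have step2 : ∀ u ∈ S.U, (2 - (h.ψ u)⁻¹) ^ N = 1 →
      (2 - (h.ψ ((S.t ^ 6)⁻¹ * u * S.t ^ 6))⁻¹) ^ N = 1 := by
    intro u hu hE
    have h1 := step u hu hE
    have hu3S : (S.t ^ 3)⁻¹ * u * S.t ^ 3 ∈ S.U := S.conjU 3 u hu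
    have hu3U : (S.t ^ 3)⁻¹ * u * S.t ^ 3 ∈ h.U := hU ▸ hu3S
    have h2 := step ((S.t ^ 3)⁻¹ * u * S.t ^ 3)⁻¹ (inv_mem hu3S)
      (by rw [h.ψ_inv hu3U, inv_inv]; exact h1)
    have hmem : (S.t ^ 3)⁻¹ * ((S.t ^ 3)⁻¹ * u * S.t ^ 3)⁻¹ * S.t ^ 3 ∈ h.U := by
      rw [← hU]; exact S.conjU 3 _ (inv_mem hu3S)
    have e : (S.t ^ 6)⁻¹ * u * S.t ^ 6
        = ((S.t ^ 3)⁻¹ * ((S.t ^ 3)⁻¹ * u * S.t ^ 3)⁻¹ * S.t ^ 3)⁻¹ := by group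
    rw [e, h.ψ_inv hmem, inv_inv]
    exact h2
  have step3 : ∀ k : ℕ, ∀ u ∈ S.U, (2 - (h.ψ u)⁻¹) ^ N = 1 →
      (2 - (h.ψ ((S.t ^ (6 * k))⁻¹ * u * S.t ^ (6 * k)))⁻¹) ^ N = 1 := by
    intro k
    induction k with
    | zero => intro u hu hE; simpa using hE
    | succ k ih =>
      intro u hu hE
      have h1 := step2 u hu hE
      have h2 := ih _ (S.conjU 6 u hu) h1
      have e : (S.t ^ (6 * (k + 1)))⁻¹ * u * S.t ^ (6 * (k + 1))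
          = (S.t ^ (6 * k))⁻¹ * ((S.t ^ 6)⁻¹ * u * S.t ^ 6) * S.t ^ (6 * k) := by
        rw [mul_add, mul_one, pow_add]; group
      rw [e]; exact h2
  -- choose `k` with `p ∣ 6 k + 3`
  have hc6 : Nat.Coprime 6 p := by
    rw [Nat.coprime_comm]
    refine (Nat.Prime.coprime_iff_not_dvd hpp).mpr (fun hd => ?_)
    have hle := Nat.le_of_dvd (by norm_num) hd
    have : p = 5 ∨ p = 6 := by omega
    rcases this with rfl | rfl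
    · omega
    · exact absurd hpp (by norm_num)
  obtain ⟨m, -, hm⟩ := Nat.exists_mul_mod_eq_one_of_coprime hc6 hp1
  have hdvd : p ∣ 6 * (m * (p - 3)) + 3 := by
    have h6 : 6 * m ≡ 1 [MOD p] := by
      rw [Nat.ModEq, hm, Nat.mod_eq_of_lt hp1]
    have h7 : 6 * m * (p - 3) + 3 ≡ 1 * (p - 3) + 3 [MOD p] := (h6.mul_right _).add_right _
    have h8 : 1 * (p - 3) + 3 = p := by omega
    rw [h8] at h7
    have h9 : 6 * (m * (p - 3)) + 3 = 6 * m * (p - 3) + 3 := by ring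
    rw [h9]
    exact (Nat.modEq_zero_iff_dvd).mp (h7.trans (Nat.modEq_zero_iff_dvd.mpr dvd_rfl))
  have htk : S.t ^ (6 * (m * (p - 3))) = (S.t ^ 3)⁻¹ := by
    obtain ⟨j, hj⟩ := hdvd
    have : S.t ^ (6 * (m * (p - 3))) * S.t ^ 3 = 1 := by
      rw [← pow_add, hj, pow_mul, S.t_pow, one_pow]
    exact eq_inv_of_mul_eq_one_left this
  -- conclusion
  intro a ha h2a
  have hainv : a⁻¹ ^ N = 1 := by rw [inv_pow, ha, inv_one]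
  obtain ⟨u, hu, hψu⟩ := h.ψ_surj hp1 _ (hN ▸ hainv)
  have huS : u ∈ S.U := hU ▸ hu
  have hE : (2 - (h.ψ u)⁻¹) ^ N = 1 := by rw [hψu, inv_inv]; exact h2a
  have h1 := step3 (m * (p - 3)) u huS hE
  rw [htk, inv_inv] at h1
  have hmemS : S.t ^ 3 * u * (S.t ^ 3)⁻¹ ∈ S.U := S.conjU' 3 u huS
  have h2 := step _ hmemS h1
  have e : (S.t ^ 3)⁻¹ * (S.t ^ 3 * u * (S.t ^ 3)⁻¹) * S.t ^ 3 = u := by group
  rw [e, hψu] at h2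
  exact h2

end Cfsg.Agent.Lib.Helper50.BGC
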